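import Cfsg.Agent.Lib.KnownB.PSUOrders.Trichotomy
import Cfsg.Agent.Lib.KnownB.IsometryOrderBound

/-!
The shape of the order of a unitary matrix modulo scalars.
-/

set_option autoImplicit false
set_option linter.unusedSectionVars false

namespace CfsgLib.KnownB.PGUOrders

open Polynomial Matrix UniqueFactorizationMonoid CfsgLib.Classical CfsgLib.Classical.Unitary
  CfsgLib.KnownB.UnitaryEigen CfsgLib.KnownB.PrimeGraph CfsgLib.KnownB.PSUOrders
open Cfsg.Agent.S2496 (cof cof_mul)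

universe u

/-- The bound for at least two orbits of total degree `S`. -/
def Small (q S v : ℕ) : Prop :=
  (Even S → v ≤ q ^ (S - 1) + 1) ∧ (Odd S → v + 1 ≤ q ^ (S - 1))

theorem Small.le {q S v : ℕ} (h : Small q S v) : v ≤ q ^ (S - 1) + 1 := by
  rcases Nat.even_or_odd S with hS | hS
  · exact h.1 hS
  · have := h.2 hS; omega

theorem cof_cases {q : ℕ} (hq : 1 ≤ q) (m : ℕ) :
    (Odd m → (q + 1) * cof q m = q ^ m + 1) ∧ (Even m → (q + 1) * cof q m + 1 = q ^ m) := by
  refine ⟨fun h => by rw [cof_mul hq, if_neg (Nat.not_even_iff_odd.2 h)], fun h => ?_⟩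
  rw [cof_mul hq, if_pos h, Nat.sub_add_cancel (Nat.one_le_pow _ _ hq)]

theorem cof_le {q m : ℕ} (hq : 2 ≤ q) (hm : 0 < m) :
    cof q m ≤ q ^ (m - 1) ∧ (2 ≤ m → cof q m < q ^ (m - 1)) := by
  obtain ⟨x, rfl⟩ : ∃ x, m = x + 1 := ⟨m - 1, by omega⟩
  obtain ⟨ho, he⟩ := cof_cases (q := q) (by omega) (x + 1)
  rw [Nat.add_sub_cancel]
  rw [pow_succ] at ho he
  have h1 : 1 ≤ q ^ x := Nat.one_le_pow _ _ (by omega)
  have hbound : (q + 1) * cof q (x + 1) ≤ q ^ x * q + 1 := by
    rcases Nat.even_or_odd (x + 1) with h | h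
    · have := he h; omega
    · exact (ho h).le
  refine ⟨by nlinarith, fun hx => ?_⟩
  have h2 : q ≤ q ^ x := Nat.le_self_pow (by omega) q
  nlinarith

theorem small_two {q a b : ℕ} (hq : 2 ≤ q) (ha : 0 < a) (hb : 0 < b) :
    Small q (a + b) ((q + 1) * (cof q a * cof q b)) := by
  obtain ⟨x, rfl⟩ : ∃ x, a = x + 1 := ⟨a - 1, by omega⟩
  obtain ⟨y, rfl⟩ : ∃ y, b = y + 1 := ⟨b - 1, by omega⟩
  obtain ⟨hao, hae⟩ := cof_cases (q := q) (by omega) (x + 1)
  obtain ⟨hbo, hbe⟩ := cof_cases (q := q) (by omega) (y + 1)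
  have hX : 1 ≤ q ^ x := Nat.one_le_pow _ _ (by omega)
  have hY : 1 ≤ q ^ y := Nat.one_le_pow _ _ (by omega)
  rw [Small, show x + 1 + (y + 1) - 1 = x + y + 1 by omega, pow_succ, pow_add]
  rw [pow_succ] at hao hae hbo hbe
  set c := cof q (x + 1)
  set d := cof q (y + 1)
  refine ⟨fun hS => ?_, fun hS => ?_⟩
  · refine Nat.le_of_mul_le_mul_left ?_ (show 0 < q + 1 by omega)
    rw [show (q + 1) * ((q + 1) * (c * d)) = ((q + 1) * c) * ((q + 1) * d) by ring]
    rcases Nat.even_or_odd (x + 1) with h | h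
    · have hb' : Even (y + 1) := (Nat.even_add.1 hS).1 h
      have e1 := hae h
      have e2 := hbe hb'
      generalize (q + 1) * c = A, (q + 1) * d = B at e1 e2 ⊢
      generalize q ^ x = U, q ^ y = V at e1 e2 ⊢
      have h4 := Nat.mul_le_mul (show A ≤ U * q by omega) (show B ≤ V * q by omega)
      linarith [show 0 ≤ U * V * q by positivity]
    · have hb' : Odd (y + 1) := Nat.not_even_iff_odd.1 fun h' =>
        Nat.not_even_iff_odd.2 h ((Nat.even_add.1 hS).2 h')
      rw [hao h, hbo hb']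
      nlinarith [Nat.mul_le_mul_left q (show q ^ x + q ^ y ≤ q ^ x * q ^ y + 1 by nlinarith)]
  · refine Nat.le_of_mul_le_mul_left ?_ (show 0 < q + 1 by omega)
    rw [mul_add, show (q + 1) * ((q + 1) * (c * d)) = ((q + 1) * c) * ((q + 1) * d) by ring, mul_one]
    rcases Nat.even_or_odd (x + 1) with h | h
    · have hb' : Odd (y + 1) := Nat.not_even_iff_odd.1 fun h' =>
        Nat.not_even_iff_odd.2 hS (h.add h')
      rw [hbo hb']
      have e1 := hae h
      have h4 : q ^ x + 1 ≤ q ^ x * q ^ y + q ^ y :=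
        Nat.add_le_add (Nat.le_mul_of_pos_right _ hY) hY
      generalize (q + 1) * c = A, (q + 1) * d = B at e1 ⊢
      generalize q ^ x = U, q ^ y = V at e1 h4 ⊢
      have h5 := Nat.mul_le_mul_left q h4
      rw [mul_add, mul_add, mul_one] at h5
      have h6 : (A + 1) * (V * q + 1) = (U * q) * (V * q + 1) := by rw [e1]
      linarith
    · have hb' : Even (y + 1) := Nat.not_odd_iff_even.1 fun h' =>
        Nat.not_even_iff_odd.2 hS (h.add_odd h')
      rw [hao h]
      have e1 := hbe hb'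
      have h4 : q ^ y + 1 ≤ q ^ x * q ^ y + q ^ x :=
        Nat.add_le_add (Nat.le_mul_of_pos_left _ hX) hX
      generalize (q + 1) * c = A, (q + 1) * d = B at e1 ⊢
      generalize q ^ x = U, q ^ y = V at e1 h4 ⊢
      have h5 := Nat.mul_le_mul_left q h4
      rw [mul_add, mul_add, mul_one] at h5
      have h6 : (U * q + 1) * (B + 1) = (U * q + 1) * (V * q) := by rw [e1]
      linarith

theorem small_prod {ι : Type*} {q : ℕ} (hq : 2 ≤ q) (K : Finset ι) (n : ι → ℕ) (hn : ∀ i ∈ K, 0 < n i)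
    (hK : 2 ≤ K.card) : Small q (∑ i ∈ K, n i) ((q + 1) * ∏ i ∈ K, cof q (n i)) := by
  classical
  rcases hK.eq_or_lt with h2 | h3
  · obtain ⟨i, j, hij, rfl⟩ := Finset.card_eq_two.1 h2.symm
    rw [Finset.sum_pair hij, Finset.prod_pair hij]
    exact small_two hq (hn i (by simp)) (hn j (by simp))
  · have hsum : ∑ i ∈ K, (n i - 1) + K.card = ∑ i ∈ K, n i := by
      rw [Finset.card_eq_sum_ones, ← Finset.sum_add_distrib]
      exact Finset.sum_congr rfl fun i hi => Nat.sub_add_cancel (hn i hi)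
    have hle : (q + 1) * ∏ i ∈ K, cof q (n i) ≤ (q + 1) * q ^ ∑ i ∈ K, (n i - 1) := by
      rw [← Finset.prod_pow_eq_pow_sum]
      exact Nat.mul_le_mul_left _ (Finset.prod_le_prod (fun _ _ => Nat.zero_le _)
        fun i hi => (cof_le hq (hn i hi)).1)
    have hpow : (q + 1) * q ^ ∑ i ∈ K, (n i - 1) + 1 ≤ q ^ (∑ i ∈ K, n i - 1) := by
      refine le_trans ?_ (Nat.pow_le_pow_right (by omega)
        (show ∑ i ∈ K, (n i - 1) + 2 ≤ ∑ i ∈ K, n i - 1 by omega))
      rw [pow_add]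
      have h1 : 1 ≤ q ^ ∑ i ∈ K, (n i - 1) := Nat.one_le_pow _ _ (by omega)
      have h2 : (q + 2) * q ^ ∑ i ∈ K, (n i - 1) ≤ q ^ 2 * q ^ ∑ i ∈ K, (n i - 1) :=
        Nat.mul_le_mul_right _ (by rw [pow_two]; nlinarith [Nat.mul_le_mul_left q hq])
      linarith
    exact ⟨fun _ => by omega, fun _ => by omega⟩

variable {F : Type u} [Field F] [Fintype F] {σ : F →+* F} {q n : ℕ}

/-- Some power `v * p ^ s` is scalar, with room for the unipotent part. -/
theorem exists_shape (p : ℕ) [Fact p.Prime] [CharP F p] (hF : Fintype.card F = q ^ 2) (h : UFrob σ q)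
    (hq : 2 ≤ q) (hn : 0 < n) {A : Matrix (Fin n) (Fin n) F} (hA : Aᵀ * A.map σ = 1) :
    ∃ v s : ℕ, 0 < v ∧ (∃ c : F, A ^ (v * p ^ s) = algebraMap F _ c) ∧
      ((∃ a, 0 < a ∧ a ≤ n ∧ v ≤ q ^ (a - 1) ∧ (2 ≤ a → v < q ^ (a - 1)) ∧
          (0 < s → a * (p ^ (s - 1) + 1) ≤ n)) ∨
        ∃ S, 2 ≤ S ∧ S ≤ n ∧ Small q S v ∧ (0 < s → S + p ^ (s - 1) ≤ n)) := by
  classical
  haveI : Nonempty (Fin n) := ⟨⟨0, hn⟩⟩
  have hp := (Fact.out : p.Prime)
  have hAu : IsUnit A := IsUnit.of_mul_eq_one _ (adjoint_eq h hA)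
  have hint : IsIntegral F A := Matrix.isIntegral A
  set μ := minpoly F A with hμ
  have hμm : μ.Monic := minpoly.monic hint
  have hμ0 : μ ≠ 0 := hμm.ne_zero
  set fs := normalizedFactors μ with hfs
  set P := fs.toFinset with hPdef
  have hirr : ∀ f ∈ P, Irreducible f := fun f hf => irreducible_of_normalized_factor f (Multiset.mem_toFinset.1 hf)
  have hmon : ∀ f ∈ P, f.Monic := fun f hf => by
    rw [← normalize_normalized_factor f (Multiset.mem_toFinset.1 hf)]
    exact Polynomial.monic_normalize (hirr f hf).ne_zero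
  have hc0 : ∀ f ∈ P, f.coeff 0 ≠ 0 := fun f hf => coeff_zero_ne_of_dvd
    (dvd_of_mem_normalizedFactors (Multiset.mem_toFinset.1 hf)) (IsometryOrder.coeff_zero_minpoly hAu)
  let e : F[X] → ℕ := fun f => fs.count f
  have hprod : μ = ∏ f ∈ P, f ^ e f := by
    rw [← Finset.prod_multiset_count, prod_normalizedFactors_eq hμ0, hμm.normalize_eq_self]
  have hdeg : ∑ f ∈ P, e f * f.natDegree ≤ n := by
    have h1 : μ.natDegree = ∑ f ∈ P, e f * f.natDegree := by
      rw [hprod, natDegree_prod _ _ fun f hf => pow_ne_zero _ (hirr f hf).ne_zero]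
      exact Finset.sum_congr rfl fun f _ => natDegree_pow f _
    rw [← h1]
    have h2 := natDegree_le_of_dvd A.minpoly_dvd_charpoly A.charpoly_monic.ne_zero
    rwa [A.charpoly_natDegree_eq_dim, Fintype.card_fin] at h2
  have he1 : ∀ f ∈ P, 1 ≤ e f := fun f hf => Multiset.one_le_count_iff_mem.2 (Multiset.mem_toFinset.1 hf)
  have hdualP : ∀ f ∈ P, dualM σ f ∈ P ∧ e f ≤ e (dualM σ f) := by
    intro f hf
    have hd : f ^ e f ∣ μ := hprod ▸ Finset.dvd_prod_of_mem (fun f => f ^ e f) hf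
    have h1 : dualM σ f ^ e f ∣ μ := by
      have h2 := dualM_dvd_minpoly h hA
        (coeff_zero_ne_of_dvd hd (IsometryOrder.coeff_zero_minpoly hAu)) hd
      rwa [dualM, Polynomial.map_pow, IsometryOrder.revM_pow (map_coeff_zero_ne (hc0 f hf))] at h2
    have hi := irreducible_dualM h (hirr f hf) (hc0 f hf)
    rw [dvd_iff_normalizedFactors_le_normalizedFactors (pow_ne_zero _ hi.ne_zero) hμ0, hi.normalizedFactors_pow,
      show normalize (dualM σ f) = dualM σ f from (revM_monic (map_coeff_zero_ne (hc0 f hf))).normalize_eq_self] at h1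
    have h2 := Multiset.le_count_iff_replicate_le.2 h1
    exact ⟨Multiset.mem_toFinset.2 (Multiset.count_pos.1 ((he1 f hf).trans h2)), h2⟩
  have hinv : ∀ f ∈ P, dualM σ (dualM σ f) = f := by
    intro f hf
    obtain ⟨hg, -⟩ := hdualP f hf
    have h1 : f ∣ dualM σ (dualM σ f) := by
      have h2 := twRev_dvd (σ := σ) (twRev_associated_dual (σ := σ) (hc0 f hf)).dvd
      rw [twRev_twRev h (hc0 f hf)] at h2
      exact h2.trans (twRev_associated_dual (σ := σ) (hc0 _ hg)).dvd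
    exact (eq_of_monic_of_associated (hmon f hf) (hmon _ (hdualP _ hg).1)
      ((hirr f hf).associated_of_dvd (hirr _ (hdualP _ hg).1) h1)).symm
  let Φ : F[X] → F[X] := fun f => if dualM σ f = f then f else f * dualM σ f
  have hΦdual : ∀ f ∈ P, Φ (dualM σ f) = Φ f := by
    intro f hf
    by_cases hs : dualM σ f = f
    · rw [hs]
    · simp only [Φ, hinv f hf, if_neg hs, if_neg (Ne.symm hs), mul_comm]
  set K := P.image Φ with hK
  have hΦroot : ∀ f ∈ P, 0 < (Φ f).natDegree ∧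
      f ∣ X ^ ((q + 1) * cof q (Φ f).natDegree) - 1 := by
    intro f hf
    by_cases hs : dualM σ f = f
    · obtain ⟨ho, hd⟩ := self_paired h hF (hirr f hf) (hc0 f hf) hs
      simp only [Φ, if_pos hs]
      exact ⟨(hirr f hf).natDegree_pos, by rw [(cof_cases (by omega) _).1 ho]; exact hd⟩
    · simp only [Φ, if_neg hs]
      rw [natDegree_mul (hirr f hf).ne_zero (hirr _ (hdualP f hf).1).ne_zero, natDegree_dualM (hc0 f hf)]
      refine ⟨by have := (hirr f hf).natDegree_pos; omega, ?_⟩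
      rw [cof_mul (by omega), if_pos ⟨_, rfl⟩, ← two_mul, pow_mul, ← hF]
      exact IsometryOrder.dvd_X_pow_card_pow_sub_one (hirr f hf) (hc0 f hf)
  have hpos : ∀ x ∈ K, 0 < x.natDegree := fun x hx => by
    obtain ⟨f, hf, rfl⟩ := Finset.mem_image.1 hx
    exact (hΦroot f hf).1
  -- weights of the orbits
  have hfib : ∀ f ∈ P, e f * (Φ f).natDegree ≤ ∑ g ∈ P.filter (fun g => Φ g = Φ f), e g * g.natDegree := by
    intro f hf
    have hsub : ({f, dualM σ f} : Finset F[X]) ⊆ P.filter (fun g => Φ g = Φ f) := by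
      simp [Finset.insert_subset_iff, hf, (hdualP f hf).1, hΦdual f hf]
    refine le_trans ?_ (Finset.sum_le_sum_of_subset (f := fun g => e g * g.natDegree) hsub)
    by_cases hs : dualM σ f = f
    · simp [Φ, hs]
    · rw [Finset.sum_pair (Ne.symm hs)]
      simp only [Φ, if_neg hs]
      rw [natDegree_mul (hirr f hf).ne_zero (hirr _ (hdualP f hf).1).ne_zero, natDegree_dualM (hc0 f hf), mul_add]
      exact Nat.add_le_add_left (Nat.mul_le_mul_right _ (hdualP f hf).2) _
  have hw : ∑ x ∈ K, ∑ g ∈ P.filter (fun g => Φ g = x), e g * g.natDegree ≤ n := by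
    rw [Finset.sum_fiberwise_of_maps_to fun g hg => Finset.mem_image_of_mem Φ hg]
    exact hdeg
  have hKw : ∀ x ∈ K, x.natDegree ≤ ∑ g ∈ P.filter (fun g => Φ g = x), e g * g.natDegree := fun x hx => by
    obtain ⟨f, hf, rfl⟩ := Finset.mem_image.1 hx
    exact (Nat.le_mul_of_pos_left _ (he1 f hf)).trans (hfib f hf)
  -- the exponent
  set s := Nat.clog p (P.sup e) with hs
  have hse : ∀ f ∈ P, e f ≤ p ^ s := fun f hf =>
    (Finset.le_sup hf).trans (Nat.le_pow_clog hp.one_lt _)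
  have hPne : P.Nonempty := by
    rw [Finset.nonempty_iff_ne_empty]
    intro h0
    rw [h0, Finset.prod_empty] at hprod
    exact minpoly.ne_one F A hprod
  have hs0 : 0 < s → ∃ f ∈ P, p ^ (s - 1) + 1 ≤ e f := fun h0 => by
    have h1 : 1 < P.sup e := by
      by_contra hle
      rw [hs, Nat.clog_of_right_le_one (Nat.le_of_not_lt hle)] at h0
      omega
    obtain ⟨f, hf, hfe⟩ := Finset.exists_mem_eq_sup P hPne e
    exact ⟨f, hf, hfe ▸ Nat.pow_pred_clog_lt_self hp.one_lt h1⟩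
  have hann : ∀ (L : ℕ) (c : F), (∀ f ∈ P, f ∣ X ^ L - C c) →
      A ^ (L * p ^ s) = algebraMap F _ (c ^ p ^ s) := by
    intro L c hL
    have hdvd : μ ∣ (X ^ L - C c) ^ p ^ s := by
      rw [hprod]
      refine Finset.prod_dvd_of_coprime (fun f hf g hg hfg => IsCoprime.pow
        ((hirr f hf).coprime_iff_not_dvd.2 fun h => hfg
          (eq_of_monic_of_associated (hmon f hf) (hmon g hg) ((hirr f hf).associated_of_dvd (hirr g hg) h)))) ?_
      intro f hf
      exact (pow_dvd_pow f (hse f hf)).trans (pow_dvd_pow_of_dvd (hL f hf) _)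
    obtain ⟨r, hr⟩ := hdvd
    have h := congrArg (aeval A) hr
    rw [map_mul, minpoly.aeval, zero_mul, sub_pow_expChar_pow, ← pow_mul, ← C_pow, map_sub, map_pow,
      aeval_X, aeval_C, sub_eq_zero] at h
    exact h
  obtain ⟨f₀, hf₀⟩ := hPne
  by_cases hone : K.card = 1
  · have hall : ∀ g ∈ P, Φ g = Φ f₀ := fun g hg =>
      Finset.card_le_one.1 hone.le _ (Finset.mem_image_of_mem Φ hg) _ (Finset.mem_image_of_mem Φ hf₀)
    set a := (Φ f₀).natDegree with ha
    obtain ⟨hapos, hdv⟩ := hΦroot f₀ hf₀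
    haveI := Fact.mk (hirr f₀ hf₀)
    obtain ⟨c, hc, hcd⟩ := exists_scalar hF h (hirr f₀ hf₀) (N := cof q a) (dvd_refl (q + 1)) (by
      have h1 := AdjoinRoot.mk_eq_zero.2 hdv
      rwa [map_sub, map_pow, AdjoinRoot.mk_X, map_one, sub_eq_zero, mul_comm] at h1)
    have hboth : ∀ g ∈ P, g ∣ X ^ cof q a - C c := by
      intro g hg
      have hd' : dualM σ f₀ ∣ X ^ cof q a - C c :=
        (twRev_associated_dual (hc0 f₀ hf₀)).symm.dvd.trans (transfer_dual h (cof_pos hq hapos) hc hcd)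
      have hdvdΦ : g ∣ Φ f₀ := by
        rw [← hall g hg]
        by_cases h' : dualM σ g = g <;> simp [Φ, h']
      by_cases h' : dualM σ f₀ = f₀
      · simp only [Φ, if_pos h'] at hdvdΦ
        exact hdvdΦ.trans hcd
      · simp only [Φ, if_neg h'] at hdvdΦ
        rcases (hirr g hg).prime.dvd_or_dvd hdvdΦ with h1 | h1
        · exact h1.trans hcd
        · exact h1.trans hd'
    have hroom : ∀ g ∈ P, e g * a ≤ n := fun g hg => by
      refine le_trans ?_ hdeg
      have := hfib g hg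
      rw [hall g hg, ← ha] at this
      exact this.trans (Finset.sum_le_sum_of_subset (Finset.filter_subset _ _))
    refine ⟨cof q a, s, cof_pos hq hapos, ⟨_, hann _ c hboth⟩, Or.inl ⟨a, hapos, ?_, (cof_le hq hapos).1,
      (cof_le hq hapos).2, fun h0 => ?_⟩⟩
    · exact (Nat.le_mul_of_pos_left _ (he1 f₀ hf₀)).trans (hroom f₀ hf₀)
    · obtain ⟨g, hg, hge⟩ := hs0 h0
      rw [mul_comm]
      exact (Nat.mul_le_mul_right _ hge).trans (hroom g hg)
  · have hK2 : 2 ≤ K.card := by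
      have : 0 < K.card := Finset.card_pos.2 ⟨_, Finset.mem_image_of_mem Φ hf₀⟩
      omega
    refine ⟨(q + 1) * ∏ x ∈ K, cof q x.natDegree, s,
      Nat.mul_pos (Nat.succ_pos q) (Finset.prod_pos fun x hx => cof_pos hq (hpos x hx)), ⟨_, hann _ 1 ?_⟩,
      Or.inr ⟨∑ x ∈ K, x.natDegree, ?_, (Finset.sum_le_sum hKw).trans hw, small_prod hq K _ hpos hK2, fun h0 => ?_⟩⟩
    · intro f hf
      obtain ⟨t, ht⟩ : (q + 1) * cof q (Φ f).natDegree ∣ (q + 1) * ∏ x ∈ K, cof q x.natDegree :=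
        mul_dvd_mul_left _ (Finset.dvd_prod_of_mem (fun x : F[X] => cof q x.natDegree) (Finset.mem_image_of_mem Φ hf))
      rw [ht, C_1]
      have h1 := sub_dvd_pow_sub_pow (X ^ ((q + 1) * cof q (Φ f).natDegree) : F[X]) 1 t
      rw [one_pow, ← pow_mul] at h1
      exact (hΦroot f hf).2.trans h1
    · calc 2 ≤ ∑ _x ∈ K, 1 := by simpa using hK2
        _ ≤ _ := Finset.sum_le_sum fun x hx => hpos x hx
    · obtain ⟨g, hg, hge⟩ := hs0 h0
      have hgK := Finset.mem_image_of_mem Φ hg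
      rw [← Finset.add_sum_erase K _ hgK] at hw
      rw [← Finset.add_sum_erase K _ hgK]
      have h1 := (Nat.mul_le_mul_right _ hge).trans (hfib g hg)
      rw [add_mul, one_mul] at h1
      have h2 := Nat.le_mul_of_pos_right (p ^ (s - 1)) (hΦroot g hg).1
      have h3 := Finset.sum_le_sum (s := K.erase (Φ g)) fun x hx => hKw x (Finset.mem_of_mem_erase hx)
      omega

end CfsgLib.KnownB.PGUOrders
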