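import Cfsg.Agent.Lib.KnownB.PSUOrders.Tori

/-!
Unitary matrices of large order, and a lower bound for projective orders in `GU n`.
-/

set_option autoImplicit false
set_option linter.style.haveILetI false

namespace CfsgLib.KnownB.PGUOrders

open Matrix Polynomial CfsgLib.Classical CfsgLib.Classical.Unitary CfsgLib.KnownB.UnitaryEigen
  CfsgLib.KnownB.UnitaryCharpoly CfsgLib.KnownB.UnitaryConj CfsgLib.KnownB.PSUOrders

universe u

variable {F : Type u} [Field F] [Fintype F] {σ : F →+* F} {q n : ℕ}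

/-- A unitary matrix with a given self dual polynomial has an order divisible by the root orders. -/
theorem exists_of_root (p : ℕ) [Fact p.Prime] [CharP F p] (h : UFrob σ q) {L : Type*} [Field L] [Algebra F L]
    [Finite L] (u : Lˣ) {m : ℕ} {f : F[X]} (hf : f.Monic) (hd : f.natDegree = m) (h0 : f.coeff 0 ≠ 0)
    (hsd : SelfDual σ f) (hroot : aeval (u : L) f = 0) :
    ∃ g : Matrix (Fin m) (Fin m) F, gᵀ * g.map σ = 1 ∧ ∀ j : ℕ, g ^ j = 1 → orderOf u ∣ j := by
  obtain ⟨g, hg, -, hgf⟩ := exists_unitary p h.ne h.invol hf hd h0 hsd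
  refine ⟨g.1, ?_, fun j hj => orderOf_dvd_of_pow_eq_one (Units.ext ?_)⟩
  · have e := congrArg Matrix.transpose hg
    rwa [Matrix.transpose_mul, adj, Matrix.transpose_transpose, Matrix.transpose_one] at e
  haveI : Module.Finite F L := Module.Finite.of_finite
  have hirr : Irreducible (minpoly F (u : L)) := minpoly.irreducible (Algebra.IsIntegral.isIntegral _)
  have h2 := Semisimple.dvd_minpoly_of_dvd_charpoly (Matrix.toLin' g.1) hirr
    (by rw [Matrix.charpoly_toLin', hgf]; exact minpoly.dvd F _ hroot)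
  have h3 : minpoly F (u : L) ∣ X ^ j - 1 := h2.trans (by
    refine minpoly.dvd F _ ?_
    rw [show Matrix.toLin' g.1 = Matrix.toLinAlgEquiv' g.1 from rfl, aeval_algHom_apply, map_sub, map_pow,
      aeval_X, map_one, hj, sub_self, map_zero])
  obtain ⟨w, hw⟩ := h3
  have h4 := congrArg (aeval (u : L)) hw
  rw [map_mul, minpoly.aeval, zero_mul, map_sub, map_pow, aeval_X, map_one, sub_eq_zero] at h4
  rw [Units.val_pow_eq_pow_val, h4, Units.val_one]

/-- Tori of orders `q ^ a + 1` (`a` odd) and `q ^ a - 1` (`a` even). -/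
theorem exists_torus (hF : Fintype.card F = q ^ 2) (h : UFrob σ q) {a : ℕ} (ha : 0 < a) :
    ∃ g : Matrix (Fin a) (Fin a) F, gᵀ * g.map σ = 1 ∧
      ∀ j : ℕ, g ^ j = 1 → (if Even a then q ^ a - 1 else q ^ a + 1) ∣ j := by
  classical
  obtain ⟨p, hp⟩ := CharP.exists F
  haveI := Fact.mk (CharP.char_is_prime F p)
  obtain ⟨k, hk⟩ := exists_prime_pow hF p
  have hq2 : 2 ≤ q := by
    by_contra hq
    have := Fintype.one_lt_card (α := F)
    rw [hF] at this
    interval_cases q <;> simp at this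
  by_cases heven : Even a
  · obtain ⟨m, rfl⟩ := heven
    haveI : NeZero m := ⟨by omega⟩
    let L := FiniteField.Extension F p m
    let b := (Module.finBasis F L).reindex (finCongr (FiniteField.finrank_extension F p m))
    obtain ⟨ω, hω⟩ := IsCyclic.exists_ofOrder_eq_natCard (α := Lˣ)
    rw [Nat.card_units, FiniteField.natCard_extension, Nat.card_eq_fintype_card, hF, ← pow_mul q 2 m,
      show 2 * m = m + m by omega] at hω
    set A := Algebra.leftMulMatrix b (ω : L) with hA
    set A' := Algebra.leftMulMatrix b ((ω⁻¹ : Lˣ) : L) with hA'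
    have hAA : A' * A = 1 := by rw [hA', hA, ← map_mul, ← Units.val_mul, inv_mul_cancel, Units.val_one, map_one]
    let R := Matrix.reindexAlgEquiv F F (finSumFinEquiv (m := m) (n := m))
    set N := fromBlocks A 0 0 (A'.map σ)ᵀ with hN
    set M := fromBlocks (A'.map σ)ᵀ 0 0 A with hM
    have hadj : adj σ (R M) = R (fromBlocks A' 0 0 (A.map σ)ᵀ) := by
      rw [adj, show (R M).map σ = R (M.map σ) from rfl, show (R (M.map σ))ᵀ = R (M.map σ)ᵀ from rfl, hM,
        fromBlocks_map, fromBlocks_transpose]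
      congr 1
      rw [Matrix.map_zero σ (map_zero σ), transpose_zero]
      congr 1
      ext i j
      simp [h.invol]
    have hprodN : adj σ (R M) * R N = 1 := by
      rw [hadj, ← map_mul, hN, fromBlocks_multiply, hAA, ← transpose_mul, ← Matrix.map_mul, hAA,
        Matrix.map_one σ (map_zero σ) (map_one σ), transpose_one]
      simp
    have hcp : (R M).charpoly = (R N).charpoly := by
      show (Matrix.reindex _ _ M).charpoly = (Matrix.reindex _ _ N).charpoly
      rw [Matrix.charpoly_reindex, Matrix.charpoly_reindex, hM, hN, Matrix.charpoly_fromBlocks_zero₁₂,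
        Matrix.charpoly_fromBlocks_zero₁₂, mul_comm]
    have hsd : SelfDual σ (R N).charpoly := by
      have h1 := reverse_charpoly_of_adj (σ := σ) hprodN
      rwa [hcp] at h1
    have hu : IsUnit (R N).det := isUnit_det_of_left_inverse hprodN
    have h0 : (R N).charpoly.coeff 0 ≠ 0 := fun h0 => by
      rw [Matrix.det_eq_sign_charpoly_coeff, h0, mul_zero] at hu
      exact hu.ne_zero rfl
    obtain ⟨g, hg, hj⟩ := exists_of_root p h ω (f := (R N).charpoly) (Matrix.charpoly_monic _)
      (by rw [Matrix.charpoly_natDegree_eq_dim, Fintype.card_fin]) h0 hsd (by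
        rw [show (R N).charpoly = (Matrix.reindex _ _ N).charpoly from rfl, Matrix.charpoly_reindex, hN,
          Matrix.charpoly_fromBlocks_zero₁₂, map_mul (aeval (ω : L)),
          show aeval (ω : L) A.charpoly = 0 from Algebra.leftMulMatrix_injective b (show Algebra.leftMulMatrix b (aeval (ω : L) A.charpoly) =
            Algebra.leftMulMatrix b 0 by rw [← aeval_algHom_apply, map_zero]; exact Matrix.aeval_self_charpoly A),
          zero_mul])
    exact ⟨g, hg, fun j e => by rw [if_pos ⟨m, rfl⟩, ← hω]; exact hj j e⟩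
  · haveI : NeZero a := ⟨ha.ne'⟩
    let L := FiniteField.Extension F p a
    let b := (Module.finBasis F L).reindex (finCongr (FiniteField.finrank_extension F p a))
    obtain ⟨ω, hω⟩ := IsCyclic.exists_ofOrder_eq_natCard (α := Lˣ)
    rw [Nat.card_units, FiniteField.natCard_extension, Nat.card_eq_fintype_card, hF, ← pow_mul q 2 a] at hω
    have hN : q ^ (2 * a) - 1 = (q ^ a + 1) * (q ^ a - 1) := by
      rw [mul_comm 2 a, pow_mul]; simpa using Nat.sq_sub_sq (q ^ a) 1
    have hpos : 0 < q ^ a - 1 := Nat.sub_pos_of_lt (Nat.one_lt_pow ha.ne' hq2)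
    set u := ω ^ (q ^ a - 1) with hu
    have huord : orderOf u = q ^ a + 1 := by
      rw [hu, orderOf_pow_of_dvd hpos.ne' (hω ▸ hN ▸ dvd_mul_left _ _), hω, hN, Nat.mul_div_cancel _ hpos]
    set M := Algebra.leftMulMatrix b (u : L) with hM
    obtain ⟨i, rfl⟩ := Nat.not_even_iff_odd.1 heven
    have hMinv : M ^ (q ^ (2 * i + 1)) * M = 1 := by
      rw [← pow_succ, hM, ← map_pow, ← Units.val_pow_eq_pow_val, ← huord, pow_orderOf_eq_one, Units.val_one,
        map_one]
    set f := M.charpoly with hf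
    have hQ : ∀ j, (M ^ (Fintype.card F ^ j)).charpoly = f := by
      intro j
      induction j with
      | zero => rw [pow_zero, pow_one]
      | succ j ih => rw [pow_succ, pow_mul, FiniteField.Matrix.charpoly_pow_card, ih]
    have hfA : (adj σ (M ^ (q ^ (2 * i + 1)))).charpoly = f := by
      rw [adj, Matrix.charpoly_transpose, Matrix.charpoly_map, pow_succ q, pow_mul M, charpoly_pow h p hk,
        show q ^ (2 * i) = Fintype.card F ^ i by rw [hF, pow_mul], hQ, map_map h.invol]
    have hsd : SelfDual σ f := by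
      have h1 := reverse_charpoly_of_adj (σ := σ) (A := adj σ (M ^ (q ^ (2 * i + 1)))) (B := M)
        (by rw [(isInvol_adj h.invol).invol]; exact hMinv)
      rwa [hfA] at h1
    have hMu : IsUnit M.det := isUnit_det_of_left_inverse hMinv
    have h0 : f.coeff 0 ≠ 0 := fun h0 => by
      rw [Matrix.det_eq_sign_charpoly_coeff, ← hf, h0, mul_zero] at hMu
      exact hMu.ne_zero rfl
    obtain ⟨g, hg, hj⟩ := exists_of_root p h u (f := f) (Matrix.charpoly_monic _)
      (by rw [hf, Matrix.charpoly_natDegree_eq_dim, Fintype.card_fin]) h0 hsd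
      (Algebra.leftMulMatrix_injective b (show Algebra.leftMulMatrix b (aeval (u : L) M.charpoly) =
        Algebra.leftMulMatrix b 0 by
        rw [← aeval_algHom_apply, map_zero]; exact Matrix.aeval_self_charpoly M))
    exact ⟨g, hg, fun j e => by rw [if_neg heven, ← huord]; exact hj j e⟩

theorem scalar_central {g : ↥(Cfsg.GU n F q)} {c : F} (hc : g.1.1 = algebraMap F (Matrix (Fin n) (Fin n) F) c) :
    g ∈ Subgroup.center ↥(Cfsg.GU n F q) := by
  refine Subgroup.mem_center_iff.2 fun k => Subtype.ext (Units.ext ?_)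
  show k.1.1 * g.1.1 = g.1.1 * k.1.1
  rw [hc]
  exact (Algebra.commutes c k.1.1).symm

theorem mk_pow_of_scalar {g : ↥(Cfsg.GU n F q)} {m : ℕ} {c : F}
    (hc : g.1.1 ^ m = algebraMap F (Matrix (Fin n) (Fin n) F) c) :
    (QuotientGroup.mk g : ↥(Cfsg.GU n F q) ⧸ Subgroup.center ↥(Cfsg.GU n F q)) ^ m = 1 := by
  rw [← QuotientGroup.mk_pow, QuotientGroup.eq_one_iff]
  exact scalar_central (g := g ^ m) hc

theorem scalar_of_center (hF : Nat.card F = q ^ 2) {g : ↥(Cfsg.GU n F q)}
    (hg : g ∈ Subgroup.center ↥(Cfsg.GU n F q)) :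
    ∃ c : F, g.1.1 = algebraMap F (Matrix (Fin n) (Fin n) F) c := by
  obtain ⟨x, hx, hx1⟩ := exists_normOne_sq_ne_one hF
  have hx0 : x ≠ 0 := by rintro rfl; simp at hx
  have hcomm : ∀ (m : Matrix (Fin n) (Fin n) F) (hd : m.det = 1),
      (⟨m, hd⟩ : Matrix.SpecialLinearGroup (Fin n) F) ∈ Cfsg.SU n F q → m * g.1.1 = g.1.1 * m :=
    fun m hd hm => congrArg (fun k : ↥(Cfsg.GU n F q) => k.1.1)
      (Subgroup.mem_center_iff.1 hg ⟨Matrix.SpecialLinearGroup.toGL ⟨m, hd⟩, hm⟩)
  have hdiag : ∀ a b, a ≠ b → g.1.1 a b = 0 := by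
    intro a b hab
    set d : Fin n → F := Function.update (Function.update (fun _ => 1) b x⁻¹) a x with hd
    have hdet : (Matrix.diagonal d).det = 1 := by
      rw [Matrix.det_diagonal, hd, Finset.prod_update_of_mem (Finset.mem_univ _),
        Finset.prod_update_of_mem (by simp [hab.symm])]
      simp [mul_inv_cancel₀ hx0]
    have := hcomm _ hdet (diagonal_mem_SU (fun i => by
      simp only [hd, Function.update_apply]
      split_ifs <;> simp [hx, inv_pow]) hdet)
    have hab' := congrFun (congrFun this a) b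
    rw [Matrix.diagonal_mul, Matrix.mul_diagonal] at hab'
    simp [hd, hab.symm] at hab'
    by_contra h0
    have h' : g.1.1 a b * (x ^ 2 - 1) = 0 := by
      have : g.1.1 a b * x⁻¹ * x = g.1.1 a b := by rw [inv_mul_cancel_right₀ hx0]
      linear_combination x * hab' + this
    exact hx1 (sub_eq_zero.1 ((mul_eq_zero.1 h').resolve_left h0))
  have hsame : ∀ a b, g.1.1 a a = g.1.1 b b := by
    intro a b
    rcases eq_or_ne a b with rfl | hab
    · rfl
    have hab' := congrFun (congrFun (hcomm _ _ (signSwap_mem_SU hF hab)) b) a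
    rw [Matrix.mul_apply, Matrix.mul_apply, Finset.sum_eq_single a, Finset.sum_eq_single b] at hab'
    · simpa [signSwap, hab.symm] using hab'
    · intro l _ hl; simp [hdiag b l hl.symm]
    · simp
    · intro l _ hl; simp [hdiag l a hl]
    · simp
  rcases isEmpty_or_nonempty (Fin n) with he | he
  · exact ⟨1, Subsingleton.elim _ _⟩
  obtain ⟨i₀⟩ := he
  refine ⟨g.1.1 i₀ i₀, Matrix.ext fun a b => ?_⟩
  rcases eq_or_ne a b with rfl | h
  · simp [Matrix.algebraMap_matrix_apply, hsame a i₀]
  · simp [Matrix.algebraMap_matrix_apply, hdiag a b h, h]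

/-- A torus beside a unipotent block with a fixed vector. -/
theorem exists_large (p : ℕ) [Fact p.Prime] [CharP F p] (hF : Fintype.card F = q ^ 2) (h : UFrob σ q)
    {a b : ℕ} (ha : 0 < a) (hb : 0 < b) (hab : a + b = n) :
    ∃ x : ↥(Cfsg.GU n F q) ⧸ Subgroup.center ↥(Cfsg.GU n F q),
      (if Even a then q ^ a - 1 else q ^ a + 1) * p ^ Nat.clog p b ∣ orderOf x := by
  classical
  subst hab
  obtain ⟨A, hA, hAo⟩ := exists_torus hF h ha
  obtain ⟨U, hUo, v, hv, hUv⟩ := exists_unipotent hF h p hb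
  let e : Fin a ⊕ Fin b ≃ Fin (a + b) := finSumFinEquiv
  let R := Matrix.reindexAlgEquiv F F e
  set M := fromBlocks A 0 0 U.1.1 with hM
  have hz : ∀ {α β : Type} , (0 : Matrix α β F).map σ = 0 := fun {α β} => Matrix.map_zero σ (map_zero σ)
  have hMM : Mᵀ * M.map σ = 1 := by
    rw [hM, fromBlocks_transpose, fromBlocks_map, fromBlocks_multiply]
    simp [hA, su_mul h U, hz]
  have hRR : (R M)ᵀ * (R M).map σ = 1 := by
    rw [show (R M)ᵀ = R Mᵀ from rfl, show (R M).map σ = R (M.map σ) from rfl, ← map_mul, hMM, map_one]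
  have hdet : (R M).det ≠ 0 := fun h0 => by
    have h1 := congrArg Matrix.det hRR
    rw [Matrix.det_mul, Matrix.det_transpose, h0, zero_mul, Matrix.det_one] at h1
    exact zero_ne_one h1
  let g : ↥(Cfsg.GU (a + b) F q) := ⟨Matrix.GeneralLinearGroup.mkOfDetNeZero (R M) hdet,
    (CfsgLib.Geometry.UnSplit.mem_GU_iff_mul h).2 hRR⟩
  set w := Sum.elim (0 : Fin a → F) v ∘ e.symm with hw
  have hfix : (R M) *ᵥ w = w := by
    rw [hw, show R M = M.submatrix e.symm e.symm from rfl,
      Matrix.submatrix_mulVec_equiv, hM, Matrix.fromBlocks_mulVec]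
    simp [Function.comp_assoc, Matrix.mulVec_zero, hUv]
  refine ⟨QuotientGroup.mk g, ?_⟩
  set m := orderOf (QuotientGroup.mk g : ↥(Cfsg.GU (a + b) F q) ⧸ Subgroup.center ↥(Cfsg.GU (a + b) F q))
  have hm : g ^ m ∈ Subgroup.center ↥(Cfsg.GU (a + b) F q) := by
    rw [← QuotientGroup.eq_one_iff, QuotientGroup.mk_pow]
    exact pow_orderOf_eq_one _
  obtain ⟨c, hc⟩ := scalar_of_center (by rw [Nat.card_eq_fintype_card, hF]) hm
  have hgm : ∀ j : ℕ, (R M) ^ j *ᵥ w = w := by
    intro j
    induction j with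
    | zero => rw [pow_zero, Matrix.one_mulVec]
    | succ j ih => rw [pow_succ, ← Matrix.mulVec_mulVec, hfix, ih]
  have hv' : w ≠ 0 := fun h => hv (funext fun i => by
    simpa [hw] using congrFun h (e (Sum.inr i)))
  have hc' : (R M) ^ m = algebraMap F _ c := hc
  have hc1 : c = 1 := by
    have h := hgm m
    rw [hc', Algebra.algebraMap_eq_smul_one, Matrix.smul_mulVec, Matrix.one_mulVec] at h
    obtain ⟨i, hi⟩ := Function.ne_iff.1 hv'
    exact mul_right_cancel₀ hi (by simpa using congrFun h i)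
  rw [hc1, map_one, ← map_pow, map_eq_one_iff R R.injective, hM, Matrix.fromBlocks_diagonal_pow,
    ← Matrix.fromBlocks_one, Matrix.fromBlocks_inj] at hc'
  refine Nat.Coprime.mul_dvd_of_dvd_of_dvd (Nat.Coprime.pow_right _ ?_) (hAo m hc'.1)
    (hUo.trans (orderOf_dvd_of_pow_eq_one ((su_pow_eq_one_iff U m).2 hc'.2.2.2)))
  obtain ⟨k, hk⟩ := exists_prime_pow hF p
  have hk0 : k ≠ 0 := fun h0 => by
    have := Fintype.one_lt_card (α := F)
    rw [hk, h0] at hF; simp at hF; omega
  have hpq : p ∣ q ^ a := (hk ▸ dvd_pow_self p hk0).trans (dvd_pow_self q ha.ne')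
  refine Nat.Coprime.symm ((Fact.out : p.Prime).coprime_iff_not_dvd.2 fun hd => (Fact.out : p.Prime).ne_one ?_)
  split_ifs at hd
  · have h1 := Nat.dvd_sub hpq hd
    rw [Nat.sub_sub_self (Nat.one_le_pow _ _ (hk ▸ pow_pos (Fact.out : p.Prime).pos k))] at h1
    exact Nat.dvd_one.1 h1
  · exact Nat.dvd_one.1 ((Nat.dvd_add_right hpq).1 hd)

end CfsgLib.KnownB.PGUOrders
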